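import Cfsg.Agent.PG.PF10.Main
import Cfsg.Agent.PG.PF9G

/-! Peterfalvi (11.3)-(11.7) for maximal subgroups of types III and IV. -/

set_option autoImplicit false
set_option linter.unusedSectionVars false

open Pointwise Cfsg Cfsg.Lib.Solv
open scoped ComplexConjugate

namespace Cfsg.Lib.FT.PG

variable {G : Type*} [Group G] [Dl G] [Finite G] {M U W W₁ W₂ : Subgroup G}

/-- Peterfalvi, Hypothesis (11.2). -/
theorem FTtype34_hyp (hG : Ctx G) (hM : Mx M) (hP : OfTypeP M U W W₁ W₂)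
    (h2 : FTtype M ≠ 2) : T34Hyp M W₁ U W₂ (FTDade0 M) := by
  have h3 : 2 < FTtype M := FTtypeP_gt2 hG hM hP h2
  obtain ⟨R, hR, -⟩ := FTtypeP_subcoherent hG hM hP
  rw [FTcore_type_gt2 h3] at hR
  exact ⟨typeP24_of_FT hG hM hP (FTtype5_exclusion hG hM), typeP_W₂_prime_of_ne2 hG hM hP h2,
    ⟨R, hR _ (seqInd_conjC_subset1 le_rfl)⟩, FTtype345_noncoherence hG hM h3⟩

end Cfsg.Lib.FT.PG
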